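/-
Sparse matrices over the field of 13 elements acting on packed vectors.
-/
import Cfsg.Agent.Lib.CosetEnum.Fi22Mat78.Data

set_option autoImplicit false

namespace CfsgLib.CosetEnum.Fi22Mat78

/-- A coordinate of a packed vector. -/
noncomputable def co (n c : ℕ) : ℕ := fld n (Nat.mul (nat_lit 4) c) (nat_lit 4)

/-- The value of a row. -/
noncomputable def rowVal (n : ℕ) (row : List (ℕ × ℕ)) : ℕ :=
  List.rec (motive := fun _ => ℕ) (nat_lit 0) (fun e _ acc => Nat.add (Nat.mul e.2 (co n e.1)) acc) row

/-- The image of a packed vector. -/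
noncomputable def packR (n : ℕ) (M : List (List (ℕ × ℕ))) : ℕ :=
  List.rec (motive := fun _ => ℕ) (nat_lit 0)
    (fun row _ acc => Nat.add (Nat.mod (rowVal n row) (nat_lit 13)) (Nat.mul (nat_lit 16) acc)) M

/-- The image of a packed vector under a word. -/
noncomputable def runM (w : List ℕ) (n : ℕ) : ℕ :=
  List.rec (motive := fun _ => ℕ) n (fun x _ acc => force acc fun a => packR a (mats.getD x [])) w

/-- A word fixes thirteen consecutive vectors of the basis. -/
noncomputable def okPart (lo : ℕ) (w : List ℕ) : Bool :=
  allN (nat_lit 13) fun i => force (Nat.pow (nat_lit 16) (Nat.add lo i)) fun e => Nat.beq (runM w e) e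

/-- A word fixes every vector of the basis. -/
noncomputable def okWord (w : List ℕ) : Bool :=
  allN (nat_lit 78) fun j => force (Nat.pow (nat_lit 16) j) fun e => Nat.beq (runM w e) e

end CfsgLib.CosetEnum.Fi22Mat78
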