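/-
Packed vectors and sparse matrices over the field of 13 elements agree with matrices.
-/
import Cfsg.Agent.Lib.CosetEnum.Fi22Mat78.Fun
import Mathlib.LinearAlgebra.Matrix.GeneralLinearGroup.Defs
import Mathlib.Algebra.Field.ZMod
import Mathlib.Data.Matrix.Basic
import Mathlib.Data.List.GetD
import Cfsg.Agent.Lib.CosetEnum.Sound
import Cfsg.Agent.Lib.CosetEnum.Rows

set_option autoImplicit false
set_option maxRecDepth 100000

namespace CfsgLib.CosetEnum.Fi22Mat78

open Matrix

/-- The matrix of rows of sparse entries. -/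
noncomputable def toM (M : List (List (ℕ × ℕ))) : Matrix (Fin 78) (Fin 78) (ZMod 13) :=
  fun r c => ((M.getD r []).map fun e => if e.1 = c.val then (e.2 : ZMod 13) else 0).sum

/-- The vector of a packed number. -/
noncomputable def vecN (n : ℕ) : Fin 78 → ZMod 13 := fun i => (co n i : ℕ)

theorem co_eq (n c : ℕ) : co n c = n / 16 ^ c % 16 := by
  show (n >>> (4 * c)) % 2 ^ 4 = _
  rw [Nat.shiftRight_eq_div_pow, pow_mul]; rfl

theorem row_dot (n : ℕ) : ∀ row : List (ℕ × ℕ), (∀ e ∈ row, e.1 < 78) →
    ∑ c : Fin 78, (row.map fun e => if e.1 = c.val then (e.2 : ZMod 13) else 0).sum * vecN n c =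
      ((rowVal n row : ℕ) : ZMod 13) := by
  intro row
  induction row with
  | nil => intro _; simp [rowVal]
  | cons e row ih =>
    intro h
    have he := h e List.mem_cons_self
    simp only [List.map_cons, List.sum_cons, add_mul, Finset.sum_add_distrib]
    rw [ih fun a ha => h a (List.mem_cons_of_mem _ ha), Finset.sum_eq_single ⟨e.1, he⟩
      (fun c _ hc => by rw [if_neg fun q => hc (Fin.ext q.symm), zero_mul]) (fun q => absurd (Finset.mem_univ _) q),
      if_pos rfl]
    show (e.2 : ZMod 13) * (co n e.1 : ℕ) + _ = ((e.2 * co n e.1 + rowVal n row : ℕ) : ZMod 13)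
    push_cast; rfl

theorem co_pack (n : ℕ) : ∀ (M : List (List (ℕ × ℕ))) (i : ℕ),
    co (packR n M) i = (M.map fun row => rowVal n row % 13).getD i 0 := by
  intro M
  induction M with
  | nil => intro i; simp [packR, co_eq]
  | cons row M ih =>
    intro i
    have e : packR n (row :: M) = rowVal n row % 13 + 16 * packR n M := rfl
    have h13 : rowVal n row % 13 < 13 := Nat.mod_lt _ (by norm_num)
    cases i with
    | zero => rw [co_eq, e, List.map_cons, List.getD_cons_zero, pow_zero, Nat.div_one]; omega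
    | succ i =>
      rw [List.map_cons, List.getD_cons_succ, ← ih, co_eq, co_eq, e, pow_succ', ← Nat.div_div_eq_div_mul,
        show (rowVal n row % 13 + 16 * packR n M) / 16 = packR n M by omega]

theorem toM_app {M : List (List (ℕ × ℕ))} (hM : ∀ row ∈ M, ∀ e ∈ row, e.1 < 78) (n : ℕ) :
    toM M *ᵥ vecN n = vecN (packR n M) := by
  funext r
  show ∑ c, toM M r c * vecN n c = ((co (packR n M) r : ℕ) : ZMod 13)
  rw [co_pack]
  by_cases hr : (r : ℕ) < M.length
  · rw [List.getD_eq_getElem _ _ (by simpa using hr), List.getElem_map, ZMod.natCast_mod]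
    simp only [toM, List.getD_eq_getElem _ _ hr]
    exact row_dot n _ (hM _ (List.getElem_mem hr))
  · rw [List.getD_eq_default _ _ (by simpa using not_lt.mp hr)]
    simp [toM, List.getElem?_eq_none (not_lt.mp hr)]

theorem mats_lt : ∀ g < 9, ∀ row ∈ mats.getD g [], ∀ e ∈ row, e.1 < 78 := by
  have h : mats.all (fun M => M.all fun row => row.all fun e => decide (e.1 < 78)) = true := by decide +kernel
  intro g hg row hrow e he
  simp only [List.all_eq_true, decide_eq_true_eq] at h
  refine h _ ?_ row hrow e he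
  rw [List.getD_eq_getElem _ _ (by simpa [mats] using hg)]
  exact List.getElem_mem _

/-- The matrices of the generators. -/
noncomputable def matAt (i : ℕ) : Matrix (Fin 78) (Fin 78) (ZMod 13) :=
  if i < 9 then toM (mats.getD i []) else 1

theorem run_spec : ∀ (w : List ℕ), (∀ x ∈ w, x < 9) → ∀ n, (w.map matAt).prod *ᵥ vecN n = vecN (runM w n) := by
  intro w
  induction w with
  | nil => intro _ n; simp [runM]
  | cons x w ih =>
    intro h n
    rw [List.map_cons, List.prod_cons, ← Matrix.mulVec_mulVec, ih (fun a ha => h a (List.mem_cons_of_mem _ ha)),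
      matAt, if_pos (h x List.mem_cons_self), toM_app (mats_lt x (h x List.mem_cons_self))]
    show _ = vecN (force (runM w n) fun a => packR a (mats.getD x []))
    rw [force_eq]

theorem vecN_basis (j : Fin 78) : vecN (16 ^ (j : ℕ)) = Pi.single j 1 := by
  funext i
  have key : ∀ j < 78, ∀ i < 78, Nat.beq (co (16 ^ j) i) (if i = j then 1 else 0) = true := by decide +kernel
  show ((co (16 ^ (j : ℕ)) i : ℕ) : ZMod 13) = _
  rw [Nat.eq_of_beq_eq_true (key j j.2 i i.2)]
  by_cases h : i = j
  · subst h; simp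
  · rw [if_neg fun q => h (Fin.ext q), Pi.single_eq_of_ne h, Nat.cast_zero]

theorem okWord_spec {w : List ℕ} (hw : ∀ x ∈ w, x < 9) (h : okWord w = true) : (w.map matAt).prod = 1 := by
  refine Matrix.ext_of_mulVec_single fun j => ?_
  have hj := allN_spec (f := fun j => force (Nat.pow (nat_lit 16) j) fun e => Nat.beq (runM w e) e) h j j.2
  rw [force_eq] at hj
  rw [← vecN_basis, run_spec w hw, Matrix.one_mulVec]
  exact congrArg vecN (Nat.eq_of_beq_eq_true hj)

theorem allN_of {f : ℕ → Bool} : ∀ {m : ℕ}, (∀ i < m, f i = true) → allN m f = true := by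
  intro m
  induction m with
  | zero => intro _; rfl
  | succ m ih =>
    intro h
    show (f m && allN m f) = true
    rw [h m (Nat.lt_succ_self m), ih fun i hi => h i (Nat.lt_succ_of_lt hi)]
    rfl

theorem okWord_parts {w : List ℕ} (h0 : okPart 0 w = true) (h1 : okPart 13 w = true) (h2 : okPart 26 w = true)
    (h3 : okPart 39 w = true) (h4 : okPart 52 w = true) (h5 : okPart 65 w = true) : okWord w = true := by
  have key : ∀ lo, okPart lo w = true → ∀ j, lo ≤ j → j < lo + 13 → runM w (16 ^ j) = 16 ^ j := by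
    intro lo h j hl hu
    have := allN_spec (f := fun i => force (Nat.pow (nat_lit 16) (Nat.add lo i)) fun e => Nat.beq (runM w e) e) h
      (j - lo) (show j - lo < 13 by omega)
    rw [force_eq, show Nat.add lo (j - lo) = j by show lo + (j - lo) = j; omega] at this
    exact Nat.eq_of_beq_eq_true this
  refine allN_of fun j (hj : j < 78) => ?_
  rw [force_eq]
  show Nat.beq (runM w (16 ^ j)) (16 ^ j) = true
  have : runM w (16 ^ j) = 16 ^ j := by
    rcases (by omega : j < 13 ∨ (13 ≤ j ∧ j < 26) ∨ (26 ≤ j ∧ j < 39) ∨ (39 ≤ j ∧ j < 52) ∨ (52 ≤ j ∧ j < 65) ∨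
      (65 ≤ j ∧ j < 78)) with q | q | q | q | q | q
    exacts [key 0 h0 j (by omega) (by omega), key 13 h1 j q.1 q.2, key 26 h2 j q.1 q.2, key 39 h3 j q.1 q.2,
      key 52 h4 j q.1 q.2, key 65 h5 j q.1 q.2]
  rw [this]; exact Nat.beq_refl _

end CfsgLib.CosetEnum.Fi22Mat78
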