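/-
Relations of the matrices of degree 78, checked on the vectors of the basis.
-/
import Cfsg.Agent.Lib.CosetEnum.Fi22Mat78.Fun
import Cfsg.Agent.Lib.CosetEnum.PresFi22
import Mathlib.Tactic.IntervalCases

set_option autoImplicit false
set_option maxRecDepth 100000

namespace CfsgLib.CosetEnum.Fi22Mat78

/-- The Coxeter relators at one generator. -/
def coxAt (i : ℕ) : List (List ℕ) :=
  ((List.range 9).filter fun j => i ≤ j).map fun j => coxWord i j (presFi22.m i j)

theorem cox0 : (coxAt 0).all okWord = true := by decide +kernel

theorem cox1 : (coxAt 1).all okWord = true := by decide +kernel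

theorem cox2 : (coxAt 2).all okWord = true := by decide +kernel

theorem cox3 : (coxAt 3).all okWord = true := by decide +kernel

theorem cox4 : (coxAt 4).all okWord = true := by decide +kernel

theorem cox5 : (coxAt 5).all okWord = true := by decide +kernel

theorem cox6 : (coxAt 6).all okWord = true := by decide +kernel

theorem cox7 : (coxAt 7).all okWord = true := by decide +kernel

theorem cox8 : (coxAt 8).all okWord = true := by decide +kernel

/-- The Coxeter relations. -/
theorem cox_ok : ∀ i < 9, ∀ w ∈ coxAt i, okWord w = true := by
  intro i hi w hw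
  interval_cases i
  · exact List.all_eq_true.mp cox0 w hw
  · exact List.all_eq_true.mp cox1 w hw
  · exact List.all_eq_true.mp cox2 w hw
  · exact List.all_eq_true.mp cox3 w hw
  · exact List.all_eq_true.mp cox4 w hw
  · exact List.all_eq_true.mp cox5 w hw
  · exact List.all_eq_true.mp cox6 w hw
  · exact List.all_eq_true.mp cox7 w hw
  · exact List.all_eq_true.mp cox8 w hw

/-- The squares. -/
theorem sq_ok (i : ℕ) (hi : i < 9) : okWord [i, i] = true := by
  refine cox_ok i hi _ ?_
  interval_cases i <;> decide +kernel

end CfsgLib.CosetEnum.Fi22Mat78
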