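/-
Relations of the matrices of degree 78, checked on the vectors of the basis.
-/
import Cfsg.Agent.Lib.CosetEnum.Fi22Mat78.Fun
import Cfsg.Agent.Lib.CosetEnum.PresFi22

set_option autoImplicit false
set_option maxRecDepth 100000

namespace CfsgLib.CosetEnum.Fi22Mat78

theorem spider0 : okPart 0 (extraWFi22.getD 0 []) = true := by decide +kernel

theorem spider1 : okPart 13 (extraWFi22.getD 0 []) = true := by decide +kernel

theorem spider2 : okPart 26 (extraWFi22.getD 0 []) = true := by decide +kernel

theorem spider3 : okPart 39 (extraWFi22.getD 0 []) = true := by decide +kernel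

theorem spider4 : okPart 52 (extraWFi22.getD 0 []) = true := by decide +kernel

theorem spider5 : okPart 65 (extraWFi22.getD 0 []) = true := by decide +kernel


end CfsgLib.CosetEnum.Fi22Mat78
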