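/-
A representation of Fi22 of degree 78 over the field of 13 elements.
-/
import Cfsg.Agent.Lib.CosetEnum.Fi22Mat78.Basic
import Cfsg.Agent.Lib.CosetEnum.Fi22Mat78.Cox
import Cfsg.Agent.Lib.CosetEnum.Fi22Mat78.Spider
import Cfsg.Agent.Lib.CosetEnum.Fi22Mat78.Arm
import Cfsg.Agent.Lib.CosetEnum.Fi22Mat78.Seven
import Cfsg.Agent.Lib.CosetEnum.Fi22Class.Main
import Cfsg.Agent.Lib.CosetEnum.Relations
import Cfsg.Agent.S1696

set_option autoImplicit false
set_option maxRecDepth 100000

namespace CfsgLib.CosetEnum.Fi22Mat78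

open Matrix

theorem matAt_sq (i : ℕ) : matAt i * matAt i = 1 := by
  by_cases hi : i < 9
  · have h := okWord_spec (w := [i, i]) (by simp [hi]) (sq_ok i hi)
    simpa using h
  · simp [matAt, hi]

/-- An element squaring to one as a unit. -/
def selfUnit {α : Type*} [Monoid α] (a : α) (h : a * a = 1) : αˣ := ⟨a, a, h, h⟩

theorem selfUnit_sq {α : Type*} [Monoid α] (a : α) (h : a * a = 1) : selfUnit a h * selfUnit a h = 1 := Units.ext h

/-- The generators as units. -/
noncomputable def unitAt (i : ℕ) : GL (Fin 78) (ZMod 13) := selfUnit (matAt i) (matAt_sq i)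

theorem unitAt_val (i : ℕ) : (unitAt i : Matrix (Fin 78) (Fin 78) (ZMod 13)) = matAt i := rfl

theorem unit_prod (w : List ℕ) :
    (((w.map unitAt).prod : GL (Fin 78) (ZMod 13)) : Matrix (Fin 78) (Fin 78) (ZMod 13)) = (w.map matAt).prod := by
  induction w with
  | nil => rfl
  | cons a w ih => rw [List.map_cons, List.prod_cons, Units.val_mul, ih, List.map_cons, List.prod_cons]; rfl

theorem rels_ok : ∀ w ∈ presFi22.rels, (w.map unitAt).prod = 1 := by
  intro w hw
  have hlt : ∀ x ∈ w, x < 9 := fun x hx => Fi3510.hlt w hw x hx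
  refine Units.ext ?_
  rw [unit_prod, Units.val_one]
  refine okWord_spec hlt ?_
  rw [Pres.rels, List.mem_append] at hw
  rcases hw with hw | hw
  · obtain ⟨i, hi, hw⟩ := List.mem_flatMap.mp hw
    exact cox_ok i (List.mem_range.mp hi) w hw
  · simp only [extraWFi22, List.mem_cons, List.not_mem_nil, or_false] at hw
    rcases hw with rfl | rfl | rfl
    exacts [okWord_parts spider0 spider1 spider2 spider3 spider4 spider5,
      okWord_parts arm0 arm1 arm2 arm3 arm4 arm5, okWord_parts seven0 seven1 seven2 seven3 seven4 seven5]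

theorem unitAt_sq (i : ℕ) : unitAt i * unitAt i = 1 := selfUnit_sq _ _

attribute [local irreducible] unitAt matAt toM mats

theorem exists_embedding : ∃ f : presFi22.Grp →* GL (Fin 78) (ZMod 13), Function.Injective f := by
  haveI : Finite (GL (Fin 78) (ZMod 13)) := @Finite.of_injective _ (Matrix (Fin 78) (Fin 78) (ZMod 13)) (@Pi.finite _ _ _ fun _ => @Pi.finite _ _ _ fun _ => inferInstance) Units.val Units.val_injective
  have hom := Pres.exists_hom presFi22 (G := GL (Fin 78) (ZMod 13)) unitAt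
  have hom1 := hom unitAt_sq
  have hom2 := hom1 rels_ok
  obtain ⟨f, hf⟩ := hom2 Fi22Class.hid
  refine ⟨f, ?_⟩
  haveI : IsSimpleGroup presFi22.Grp := Cfsg.Agent.S1696.result.1
  rw [← MonoidHom.ker_eq_bot_iff]
  refine (f.normal_ker.eq_bot_or_eq_top).resolve_right fun htop => ?_
  have h0 : f (presFi22.σ 0) = 1 := MonoidHom.mem_ker.mp (htop ▸ Subgroup.mem_top _)
  rw [hf 0 (by decide)] at h0
  have h1 : matAt 0 = 1 := by rw [← unitAt_val 0, h0, Units.val_one]
  have h2 := run_spec [0] (by decide) (16 ^ 1)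
  rw [List.map_singleton, List.prod_singleton, h1, Matrix.one_mulVec] at h2
  have h3 := congrFun h2 1
  have hc : co (16 ^ 1) 1 = 1 ∧ co (runM [0] (16 ^ 1)) 1 = 12 := by
    exact ⟨Nat.eq_of_beq_eq_true (by decide +kernel), Nat.eq_of_beq_eq_true (by decide +kernel)⟩
  simp only [vecN, show ((1 : Fin 78) : ℕ) = 1 from rfl, hc.1, hc.2] at h3
  exact absurd h3 (by decide)

end CfsgLib.CosetEnum.Fi22Mat78
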